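import Mathlib

set_option autoImplicit false
set_option maxRecDepth 100000

namespace Cfsg.Agent.Lib.Helper3.M21.L1

noncomputable def fc0_0 (i : ℕ) : ℕ := (nat_lit 0x1000020400001000020200000c00016200000b0001840000110001c100000e00022300001400028300001400028100001100024300001200022100000c0001c400000e0001820000130002840000140002620000130002630000130002610000120001e400000f00024200000f00014300000a0001e100000a00010300000800014100000800006400000300010200000d0000c40000060001a200000d0002010000100001a30000090001a100000d00012300000700016400000b0000e200000000000e00000000000f00000000000300000000000100000000000d00000000000d00000000000b00000000000c00000000000900000000000a00000b00018300000c00016100001100014400000a0002220000060000e30000070000c10000030000830000040000610000050000440000020000a200000000000800000000000700000000000600000000000500001200028200001400024400000f0002640000130001e200000e0002410000120001c30000090002240000110001220000090002030000100001210000080001e300000f0001010000070001c200000e0000e40000060001a400000d0000c200000500018100000c0000a300000500016300000b0000a100000400014200000a0000840000040001240000090000820000030001040000080000620000020000e10000070000430000020000c30000060000410000010000a4000005000022000001000081000004000023000001000063000003000021000000000042000002000004000000000024000001000002)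
noncomputable def sc0_0 (i : ℕ) : ℕ := (nat_lit 0x3f00004d00002f00001500001300002b00000200000900002900001d00002d000017000018000d001600004500005300005600004c00003e00000d00003900004100004f00002f000046000b001500000200003200000000000000000000000700000800000800000800003500000c00000e00003c00000b000037000f001400000500003300000900000100003700004700004400000b000009000030000005000007000033000009000030000f001300003500004500002700000d00004700005100005500005200004800003a00000100002100001500003a00003200002e0000030000050000310000070014001200003d00004b00004e00000b0000360000050000310007001100002d00000300002a0003000100002b00003300000600004b00004f00001300004e00004800003c00000300002a000b001000002b00003300004100004b00002200004c00004600003a0000010009000f00002f0000010002000e00003700004300004900001f00002100001100001200000b00004800004400003a000b000d00003900004300004700001e00001d00001f00000e000010000008000046000042000b000c00000300003500003f00004500000800004200003a0007000b0000010000240002000a00003100003b00003800002c00000100003500003f00000400003e000036000028000b000900003300003d00000600000000003e00003600002a00070008000007000003000004000300070000120001000600001100000e00001100000e0004000500000f00000d00000d00000f0004000400000a00000d00000b0003000300001f00001c0002000200001100002100001e00030001000025000022000200020000290000260002000200002300002b000028000300010000fffe0000fffe0000ffff0000ffff0000ffff0000ffff0000ffff0000ffff0000ffff0000ffff0000ffff0000ffff0000ffff0000ffff0000ffff0000ffff0000ffff0000ffff0000ffff0000ffff0000ffff0000ffff)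
noncomputable def nc0_0 (i : ℕ) : ℕ := (nat_lit 0x1400001300001200001100001000000f00000e00000d00000c00000b00000a000009000008000007000006000005000004000003000002000001000000)
noncomputable def cc0_0 (i : ℕ) : ℕ := (nat_lit 0x1300005200001400005800000f00002400001300005000001400002700001100005600000900002000000e00005b00001000005e00000900001e00001200004e00000800001c00000c00005400001200002300000600001800001000004500000b00005d00000b00003400000700004000000500001400001100003200000f00004c00000400001000000d00004300000300000e00000a00004a00000e00001b00000600003000000d00004600000200000a00000100000800000c00001700000a00001300000300002e00000800004800000100000400000500002c00000700000d00000000000000000400000700000200000300000000003c)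

end Cfsg.Agent.Lib.Helper3.M21.L1
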