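import Cfsg.Agent.Lib.Helper3.M21.L2D
import Cfsg.Agent.Lib.Helper3.M21.Net

set_option autoImplicit false
set_option maxRecDepth 100000

namespace Cfsg.Agent.Lib.Helper3.M21.L2

open Cfsg.Agent.Lib.Helper11 Cfsg.Agent.Lib.Helper3

set_option maxHeartbeats 0
set_option Elab.async false

noncomputable def fc (i : ℕ) : ℕ := (fc0_0 i)
noncomputable def sc (i : ℕ) : ℕ := (sc0_0 i)
noncomputable def nc (i : ℕ) : ℕ := (nc0_0 i)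
noncomputable def cc (i : ℕ) : ℕ := (cc0_0 i)

def isH (l : ℕ) : Bool := decide (l ∈ [9, 11, 13])
def gens : List ℕ := [5, 7]
def hl : List ℕ := [9, 11, 13]
def dl : List (List ℕ × ℕ) := [([5], 6), ([7], 8), ([7, 5, 8], 10), ([10], 9), ([5, 7, 7, 5], 12), ([12], 11), ([8, 5, 8, 5], 13), ([11, 13, 10], 15), ([15], 14)]
def BR_0 : List (List ℕ) := [[], [7, 5, 8, 10], [5, 7, 7, 5, 12], [8, 5, 8, 5, 13], [5, 5, 5], [7, 7, 7, 7, 7], [6, 7, 6, 7, 6, 7, 6, 7], [6, 8, 6, 8, 6, 8, 6, 8, 6, 8], [6, 7, 7, 6, 7, 7, 6, 7, 7], [6, 8, 8, 6, 8, 8, 6, 8, 8, 6, 8, 8, 6, 8, 8], [5, 7, 6, 7, 5, 7, 6, 7, 5, 7, 6, 7], [5, 7, 7, 7, 5, 7, 7, 7, 5, 7, 7, 7], [5, 8, 6, 7, 5, 8, 6, 7, 5, 8, 6, 7, 5, 8, 6, 7, 5, 8, 6, 7], [5, 8, 6, 8, 5, 8, 6, 8, 5, 8, 6, 8], [5, 8, 8, 8, 5, 8, 8, 8, 5, 8, 8, 8, 5, 8, 8, 8, 5, 8, 8, 8], [6, 6, 6, 7, 6, 6, 6, 7,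 6, 6, 6, 7, 6, 6, 6, 7, 6, 6, 6, 7], [6, 6, 8, 8, 6, 6, 8, 8, 6, 6, 8, 8], [6, 7, 6, 8, 6, 7, 6, 8, 6, 7, 6, 8, 6, 7, 6, 8, 6, 7, 6, 8]]
def BR : List (List ℕ) := BR_0
set_option maxRecDepth 10000000 in
noncomputable def rt : RT := (.node 11 (.node 5 (.node 2 (.node 1 (.leaf 0 0 []) (.leaf 2 2 [7, 5, 12, 5, 7])) (.node 3 (.leaf 4 1 [5, 5, 5]) (.node 4 (.leaf 3 1 [5, 8, 5, 13, 8]) (.leaf 1 1 [5, 8, 10, 7])))) (.node 8 (.node 6 (.leaf 5 2 [7, 7, 7, 7, 7]) (.node 7 (.leaf 6 5 [7, 6, 7, 6, 7, 6, 7, 6]) (.leaf 8 6 [6, 7, 7, 6, 7, 7, 6, 7, 7]))) (.node 9 (.leaf 11 9 [7, 7, 7, 5, 7, 7, 7, 5, 7, 7, 7, 5]) (.node 10 (.leaf 9 14 [8, 6, 8, 8, 6, 8, 8, 6, 8, 8, 6, 8, 8, 6, 8]) (.leaf 13 8 [5, 8, 6, 8, 5, 8, 6, 8, 5, 8, 6, 8]))))) (.node 16 (.node 13 (.node 12 (.leaf 7 3 [8, 6, 8, 6, 8, 6, 8, 6, 8, 6]) (.leaf 6 3 [7, 6, 7, 6, 7,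 6, 7, 6])) (.node 14 (.leaf 10 4 [5, 7, 6, 7, 5, 7, 6, 7, 5, 7, 6, 7]) (.node 15 (.leaf 11 8 [5, 7, 7, 7, 5, 7, 7, 7, 5, 7, 7, 7]) (.leaf 12 8 [5, 8, 6, 7, 5, 8, 6, 7, 5, 8, 6, 7, 5, 8, 6, 7, 5, 8, 6, 7])))) (.node 19 (.node 17 (.leaf 15 14 [6, 7, 6, 6, 6, 7, 6, 6, 6, 7, 6, 6, 6, 7, 6, 6, 6, 7, 6, 6]) (.node 18 (.leaf 12 18 [6, 7, 5, 8, 6, 7, 5, 8, 6, 7, 5, 8, 6, 7, 5, 8, 6, 7, 5, 8]) (.leaf 14 13 [8, 8, 8, 5, 8, 8, 8, 5, 8, 8, 8, 5, 8, 8, 8, 5, 8, 8, 8, 5]))) (.node 20 (.leaf 14 8 [5, 8, 8, 8, 5, 8, 8, 8, 5, 8, 8, 8, 5, 8, 8, 8, 5, 8, 8, 8]) (.node 21 (.leaf 16 9 [6, 8, 8, 6, 6, 8, 8, 6, 6, 8, 8, 6]) (.leaf 17 17 [7, 6, 8, 6, 7, 6, 8, 6, 7, 6, 8, 6, 7, 6, 8, 6, 7, 6, 8, 6]))))))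

theorem b0 : allR (guardB 1 (blk fc sc rt.get Cfsg.Agent.Lib.Helper3.M21.INV isH)) 1 0 = true := by decide +kernel
theorem c0 : allR (guardB 1 (cblk fc nc cc 256 20 79228162514264337593543950336 gens)) 1 0 = true := by decide +kernel

theorem chkAll : ∀ j < 1, blk fc sc rt.get Cfsg.Agent.Lib.Helper3.M21.INV isH j = true :=
  guardB_spec (D := 1) b0 (by norm_num)

theorem clAll : ∀ jb < 1, cblk fc nc cc (256 * 1) 20 79228162514264337593543950336 gens jb = true :=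
  guardB_spec (D := 1) c0 (by norm_num)

theorem hid_0 : BR_0.all (wordId (ntOf Cfsg.Agent.Lib.Helper3.M21.ntl) 5) = true := by decide +kernel
theorem hid : BR.all (wordId (ntOf Cfsg.Agent.Lib.Helper3.M21.ntl) 5) = true := by
  simp only [BR, List.all_append, hid_0, Bool.and_self]

theorem card_eq : Nat.card (lgrp (vL Cfsg.Agent.Lib.Helper3.M21.ntl Cfsg.Agent.Lib.Helper3.M21.deg) gens) = 20 * Nat.card (lgrp (vL Cfsg.Agent.Lib.Helper3.M21.ntl Cfsg.Agent.Lib.Helper3.M21.deg) hl) :=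
  Cfsg.Agent.Lib.Helper3.M21.setup.level gens hl dl BR (by decide +kernel) (by decide +kernel) hid (by decide +kernel)
    (by decide +kernel) rt (by decide +kernel) isH (fun l h => of_decide_eq_true h) fc sc nc cc 1 1 20 79228162514264337593543950336
    (by norm_num) (by norm_num) (by decide +kernel) (by decide) chkAll clAll
    1 1 4 (by norm_num [Cfsg.Agent.Lib.Helper3.M21.deg]) (by norm_num [Cfsg.Agent.Lib.Helper3.M21.deg]) (by decide +kernel) (by decide +kernel)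

theorem ub {M : Type*} [Group M] (w : ℕ → M) (h0 : w 0 = 1) (hinv : ∀ l, w (invL Cfsg.Agent.Lib.Helper3.M21.INV l) = (w l)⁻¹)
    (hBR : ∀ r ∈ BR, (r.map w).prod = 1)
    (hdlr : ∀ r ∈ dl.map (fun p => p.1 ++ [p.2]), (r.map w).prod = 1) (N : ℕ) (hN : Bd w hl N) :
    Bd w gens (20 * N) :=
  level_bd w Cfsg.Agent.Lib.Helper3.M21.INV h0 hinv gens hl dl BR (by decide +kernel) hdlr hBR (by decide +kernel) (by decide +kernel)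
    rt (by decide +kernel) isH (fun l h => of_decide_eq_true h) fc sc nc cc 1 1 20 79228162514264337593543950336
    (by norm_num) (by norm_num) (by decide +kernel) (by decide) chkAll clAll N hN

end Cfsg.Agent.Lib.Helper3.M21.L2
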