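import Mathlib

set_option autoImplicit false
set_option maxRecDepth 100000

namespace Cfsg.Agent.Lib.Helper3.M21.L2

noncomputable def fc0_0 (i : ℕ) : ℕ := (nat_lit 0xd0002280000110001a70000110002450000120002260000100002060000100002050000130002070000100002680000130002250000110002660000090000e500000700012600000c0001a600000d00018500000a00016600000b00014500000e0001e600000f0001c500000b0001c800000e00016700000900018700000c0001280000130002460000120002650000120001c700000e0002480000070000c80000060000e700000a0000a500000500014600000f00018800000c0001e700000800014800000a0001070000030000660000030000650000040000e60000070000850000010000460000020000250000050000480000020000a700000000000d00000000000d00000000000c00000000000b00000000000a00000000000900000f0002670000130001e800000d0002470000120001a800000b0002270000110001680000090002080000100001270000080001e500000f0001060000080001c600000e0001050000060001a500000d0000c600000600018600000c0000c500000500016500000b0000a600000400014700000a0000880000040001250000090000860000030001080000080000670000020000e80000070000470000010000c70000060000280000010000a8000005000027000000000087000004000008000000000068000003000007000000000045000002000006000000000026000001000005)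
noncomputable def sc0_0 (i : ℕ) : ℕ := (nat_lit 0x3b00004900002400002700001b00004100002200004700005100004e00002000004f00005200004a00001b00001f0000380000170000010013001500000500002d00001a00000800003900004700004800001900000a00000e000015000b001400000100002b00001800003900004500004600002200002100004600002200004200001f00004900004a00004000003200001800000f0000300013001300000000002d00000a00001100000f00002900001600000d00000200001200004300004400003800000a00001100002b00000500000d00002e0013001200002700000700000900003700001e00001d00004000003400000b00000000003f00004900004600001900004700004a00004200003600002a0013001100003900001800003d00004700004800001a00001d00001100000200003500004100001a00004700004800003e00003200000000003100000f0013001000001100002b00001200000e00003f00001800003a00001700003400000000000400002d00003900001400003800002a0000220000080000250013000f00001100003700004100004200001900003d00003a00002c000022000008000003000b000e00000100002f00003b00004300003c00001200003700001500003800002c00000d000b000d00002d00003900001200001500000900000d0000260007000c00002f00003900003e00003600000700002d00000e0000040000280009000b00001900002100000800000400001000003b00003800000b00002e000022000001000b000a00001900002300003100003200000300002900003500003a00003200000e00003900003600002c000020000e000900000900002600000500002b00000700003500003200002600000000003100002e000b000800000300002900000400003300003000000600002b00000b0008000700001900002700000200003100003400002a00001e0007000600002500002f00002c0000200004000500002d00000a00002c0003000400002900000500002c0000220004000300002d00002a0002000200002300002b000002000028000400010000fffe0000fffe0000fffe0000ffff0000ffff0000ffff0000ffff0000ffff0000ffff0000ffff0000ffff0000ffff0000ffff0000ffff0000ffff0000ffff0000ffff0000ffff0000ffff0000ffff0000ffff0000ffff)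
noncomputable def nc0_0 (i : ℕ) : ℕ := (nat_lit 0x1300001200001100001000000f00000e00000d00000c00000b00000a000009000008000007000006000005000004000003000002000001000000)
noncomputable def cc0_0 (i : ℕ) : ℕ := (nat_lit 0x1000004f00001100004d00000e00003d00001300003e00000d00005400001200005300000900001e00001000005000001300002500000e00004400000b00004200000800001a00001200002300000c00004800000f00003600000600001600001100002100000a00004600000800003400000500003900000c00004100000700004b00000300000e00000f00001d00000200000c00000400003000000700003a00000d00001900000100000800000b00001500000a00001300000900001100000000000400000300003200000500002c00000100002e00000600000b000000000000000004000007000002000003)

end Cfsg.Agent.Lib.Helper3.M21.L2
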