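import Mathlib

set_option autoImplicit false
set_option maxRecDepth 100000

namespace Cfsg.Agent.Lib.Helper3.M21.L3

noncomputable def fc0_0 (i : ℕ) : ℕ := (nat_lit 0xe0001c900000e0001ca00000c0001cc00000e00018b00000e0000cd0000060001cd00000800012c00000900010b00000300008c00000400006b00000d0001ac00000d0001ab00000b00008d00000400016d0000070000cb0000060000ec00000c0000ab00000500018c00000700014d00000a0000ed0000090001ad00000d00012d00000a00016b00000b00014c0000070001090000080000ea00000600016900000b0000ca00000f00018d00000c0001ed00000f00016c00000b0001eb00000800004d00000200010d00000900006900000300012a00000300002d00000100006d00000c0001aa00000d00018900000f00010a0000080001e900000900014a00000a00012900000f00014b00000a0001ec00000600008a0000040000c900000100004a00000200002900000000000f00000000000e0000070001ea00000f0000e90000050001cb00000e0000ac0000050001a900000d0000aa00000500018a00000c0000a900000400016a00000b00008900000300014900000a00006a00000200012b00000900004c00000200010c00000800004b0000010000eb00000700002c0000010000cc00000600002b0000000000ad00000500000d00000000008b00000400000c00000000006c00000300000b00000000004900000200000a00000000002a000001000009)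
noncomputable def sc0_0 (i : ℕ) : ℕ := (nat_lit 0x200002c00004900004e00002300002100003f00004d000046000038000000000b001700002200001100000300003f00004b0000440000320007001600003100003400002000000f00003b00004900004a00001f000002000036000015000b001500001100002c00002000003b00004700004800002800003800002200003700001b000b0014000019000020000035000043000046000026000045000040000032000011000024000b001400002d00003d00004200003400001e00000700000c00003700004300003c00002c000b001300000d00000100000a00001200004100003e00003000000500002600001000002f000b001200002400001c00001b00003100003f00003a00001f0007001100001400000300002f00003d0000360005001000002000001400000c00003b00003c00001100000f0000160008000f00001400002900000e00001a0000390000320000240000100008000f00002700000b00002900003700003800002e0000160000240008000e00002b00001600003500003200000900001000001300000e0008000d00002b00001400003300002e0000200005000c00000a00000200003100002a00001c0005000b00000800002300002f00002a00001c0005000a00002100002d00002e00000300002b00002e00000e0007000900000600001b00000000000c00002b00002c0000010007000800002700000c00002a000300070000130000210000260000090000290000200000100007000600000b00001b000027000024000018000500050000150000050000250000200000120005000400000700001700002300001e0000100005000300001700002100001a0003000200001f00001c000200010000fffe0000ffff0000ffff0000ffff0000ffff0000ffff0000ffff0000ffff0000ffff0000ffff0000ffff0000ffff0000ffff0000ffff0000ffff0000ffff)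
noncomputable def nc0_0 (i : ℕ) : ℕ := (nat_lit 0xf00000e00000d00000c00000b00000a000009000008000007000006000005000004000003000002000001000000)
noncomputable def cc0_0 (i : ℕ) : ℕ := (nat_lit 0xc00003500000a00002500000700001c00000600004d00000c00004e00000e00005100000900003c00000d00004600000c00002a00000f00003400000500004100000500001600000400004500000f00003200000400001400000700003e00000b00003b00000900002600000d00003d00000800004a00000300002f00000200003100000200000e00000f00002800000a00003f00000600004300000800003900000e00004c00000100000a00000b00003700000000000800000e00001b00000d00001900000b00004400000300004800000600002200000100002d00000000000400000a00001300000800003000000900001100000100002000000300002c00000700000d000000000000000005000009000004000007000002000003)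

end Cfsg.Agent.Lib.Helper3.M21.L3
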